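import Cfsg.Agent.Lib.SquarefreeDegrees.OrbitBound
import Cfsg.Agent.Lib.HeightPSolv.DegreesPrime
import Cfsg.Agent.Lib.Chars.TwoDegrees
import Cfsg.Agent.Lib.Chars.Ops
import Cfsg.Agent.Lib.Core.Fitting
import Cfsg.Agent.Lib.Coprime.Quotient

/-!
# Solvable groups with squarefree character degrees have derived length at most four
-/

set_option autoImplicit false

namespace Cfsg.Agent.Lib.SquarefreeDegrees

open Cfsg Cfsg.Agent.Lib
open scoped commutatorElement

universe u

variable {G : Type u} [Group G] [Finite G]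

/-- Every irreducible degree is squarefree. -/
def SqfreeDegrees (G : Type u) [Group G] : Prop :=
  ∀ χ : IrrCharacter G, Squarefree (charDegree (χ : G → ℂ))

theorem SqfreeDegrees.normal (h : SqfreeDegrees G) (N : Subgroup G) [N.Normal] :
    SqfreeDegrees N := fun θ => by
  obtain ⟨χ, hd, -⟩ := HeightPSolv.exists_over N θ
  exact (h χ).squarefree_of_dvd hd

theorem dvd_of_dvd_pow_of_dvd_squarefree {p n d e : ℕ} (hp : p.Prime) (h1 : n ∣ p ^ e)
    (h2 : n ∣ d) (hd : Squarefree d) : n ∣ p := by
  obtain ⟨i, -, rfl⟩ := (Nat.dvd_prime_pow hp).mp h1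
  rcases Nat.lt_or_ge i 2 with hi | hi
  · calc p ^ i ∣ p ^ 1 := pow_dvd_pow p (by omega)
      _ = p := pow_one p
  · exfalso
    have h3 : p * p ∣ d := by
      rw [← pow_two]
      exact (pow_dvd_pow p hi).trans h2
    exact hp.ne_one (Nat.isUnit_iff.mp (hd p h3))

/-- A `p`-group with squarefree degrees is metabelian. -/
theorem derivedSeries_two_pGroup {p : ℕ} [hp : Fact p.Prime] (hG : IsPGroup p G)
    (h : SqfreeDegrees G) : derivedSeries G 2 = ⊥ := by
  haveI := hG.isNilpotent
  refine Chars.derivedSeries_two_eq_bot_of_isNilpotent (m := p) fun χ => ?_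
  let := Fintype.ofFinite G
  obtain ⟨d, -, hd, hdvd⟩ := Chars.irr_degree_dvd_card χ
  obtain ⟨k, hk⟩ := IsPGroup.iff_card.mp hG
  have hdeg : charDegree (χ : G → ℂ) = d := HeightPSolv.charDegree_of_eq hd
  have h1 : d ∣ p ^ k := by
    rw [← hk]
    exact hdvd
  rw [hdeg]
  exact (Nat.dvd_prime hp.out).mp
    (dvd_of_dvd_pow_of_dvd_squarefree hp.out h1 dvd_rfl (hdeg ▸ h χ))

/-- The derived subgroup of a finite nilpotent group lies in its Frattini subgroup. -/
theorem commutator_le_frattini_of_nilpotent [Group.IsNilpotent G] :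
    _root_.commutator G ≤ frattini G := by
  refine le_iInf₂ fun M hM => ?_
  haveI : M.Normal := Subgroup.NormalizerCondition.normal_of_coatom M
    Group.normalizerCondition_of_isNilpotent hM
  haveI : Nontrivial (G ⧸ M) := QuotientGroup.nontrivial_iff.mpr hM.1
  haveI : IsSimpleGroup (G ⧸ M) := by
    refine ⟨fun K _ => ?_⟩
    rcases (QuotientGroup.le_comap_mk' M K).eq_or_lt with h | h
    · left
      have := congrArg (Subgroup.map (QuotientGroup.mk' M)) h
      rw [Subgroup.map_comap_eq_self_of_surjective (QuotientGroup.mk'_surjective M)] at this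
      rw [← this, eq_bot_iff]
      rintro _ ⟨w, hw, rfl⟩
      exact Subgroup.mem_bot.mpr ((QuotientGroup.eq_one_iff w).mpr hw)
    · right
      have := congrArg (Subgroup.map (QuotientGroup.mk' M)) (hM.2 _ h)
      rwa [Subgroup.map_comap_eq_self_of_surjective (QuotientGroup.mk'_surjective M),
        Subgroup.map_top_of_surjective _ (QuotientGroup.mk'_surjective M)] at this
  haveI : Group.IsNilpotent (G ⧸ M) :=
    Group.nilpotent_of_surjective _ (QuotientGroup.mk'_surjective M)
  have hc := IsSimpleGroup.comm_iff_isSolvable (G := G ⧸ M)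
  rw [commutator_def, Subgroup.commutator_le]
  intro a _ b _
  rw [← QuotientGroup.eq_one_iff]
  show QuotientGroup.mk' M ⁅a, b⁆ = 1
  rw [map_commutatorElement, commutatorElement_eq_one_iff_mul_comm]
  exact hc.mpr inferInstance _ _

/-- Conjugation on the linear characters of a normal subgroup. -/
noncomputable def linearAction (W P : Subgroup G) [W.Normal] :
    P →* @MulAut (W →* ℂˣ) (CommGroup.toGroup.toMulOneClass.toMul) where
  toFun g :=
    { toFun := fun f => f.comp (MulAut.conjNormal ((g : G)⁻¹) : MulAut W).toMonoidHom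
      invFun := fun f => f.comp (MulAut.conjNormal (g : G) : MulAut W).toMonoidHom
      left_inv := fun f => by ext w; simp [mul_assoc]
      right_inv := fun f => by ext w; simp [mul_assoc]
      map_mul' := fun f f' => rfl }
  map_one' := by ext f w; simp
  map_mul' g g' := by ext f w; simp [mul_assoc]

theorem fixer_index_dvd (hsq : SqfreeDegrees G) {p : ℕ} [hp : Fact p.Prime] (W P : Subgroup G)
    [W.Normal] (hP : IsPGroup p P) (htop : W ⊔ P = ⊤) (f : W →* ℂˣ) :
    (fixer (linearAction W P) f).index ∣ p := by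
  classical
  let θ : IrrCharacter W := ⟨_, Chars.isIrrCharacter_of_hom f⟩
  obtain ⟨χ, -, T, hWT, hT, hTfix⟩ := HeightPSolv.exists_over W θ
  have hsub : T.subgroupOf P ≤ fixer (linearAction W P) f := by
    intro g hg
    rw [mem_fixer]
    ext w
    have := congrFun (hTfix _ (inv_mem hg)) w
    simp only [Clifford.conjFun, θ] at this
    show ((f (MulAut.conjNormal ((g : G)⁻¹) w)) : ℂ) = _
    rw [← this]
    congr 2
  refine (Subgroup.index_dvd_of_le hsub).trans ?_
  rw [show (T.subgroupOf P).index = T.relIndex P from rfl]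
  obtain ⟨k, hk⟩ := IsPGroup.iff_card.mp hP
  obtain ⟨j, -, hj⟩ := (Nat.dvd_prime_pow hp.out).1
    (hk ▸ T.relIndex_dvd_card P)
  have hWidx : W.index ∣ p ^ k := by
    rw [← hk, ← Subgroup.relIndex_top_right, ← htop, sup_comm, Subgroup.relIndex_sup_right]
    exact Subgroup.relIndex_dvd_card _ _
  have hTp : T.index ∣ p := dvd_of_dvd_pow_of_dvd_squarefree hp.out
    ((Subgroup.index_dvd_of_le hWT).trans hWidx) hT (hsq χ)
  have hle : p ^ j ≤ p ^ 1 := by
    rw [← hj, pow_one]
    refine le_trans ?_ (Nat.le_of_dvd hp.out.pos hTp)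
    rw [← Subgroup.relIndex_top_right (H := T)]
    exact Subgroup.relIndex_le_of_le_right le_top
      (by rw [Subgroup.relIndex_top_right]; exact Subgroup.index_ne_zero_of_finite)
  rw [hj]
  calc p ^ j ∣ p ^ 1 := pow_dvd_pow p ((Nat.pow_le_pow_iff_right hp.out.one_lt).mp hle)
    _ = p := pow_one p

theorem mem_centralizer_of_mem_ker {p : ℕ} [hp : Fact p.Prime]
    (W P : Subgroup G) [W.Normal] (hWn : Group.IsNilpotent W) (hW : (Nat.card W).Coprime p)
    (hP : IsPGroup p P) (g : P) (hg : g ∈ (linearAction W P).ker) :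
    (g : G) ∈ Subgroup.centralizer (W : Set G) := by
  -- `g` acts trivially on the Frattini quotient of `W`
  set A : Subgroup G := Subgroup.zpowers (g : G) with hA
  have hAW : A ≤ Subgroup.normalizer (W : Set G) := by
    rw [Subgroup.normalizer_eq_top]; exact le_top
  have hcomm : _root_.commutator W ≤ frattini W := haveI := hWn; commutator_le_frattini_of_nilpotent
  have hcen : A ≤ Subgroup.centralizer (W : Set G) := by
    refine Coprime.le_centralizer_of_frattini hAW ?_ fun a ha k hk => ?_
    · refine Nat.Coprime.coprime_dvd_right (frattini W).card_subgroup_dvd_card ?_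
      rw [hA, Nat.card_zpowers]
      obtain ⟨i, hi⟩ := IsPGroup.iff_orderOf.1 hP g
      rw [Subgroup.orderOf_coe, hi]
      exact hW.symm.pow_left i
    · obtain ⟨i, rfl⟩ := Subgroup.mem_zpowers_iff.mp ha
      have hgi : g ^ i ∈ (linearAction W P).ker := zpow_mem hg i
      refine ⟨MulAut.conjNormal ((g : G) ^ i) ⟨k, hk⟩ * (⟨k, hk⟩ : W)⁻¹, hcomm ?_, by
      rw [Subgroup.subtype_apply, Subgroup.coe_mul, MulAut.conjNormal_apply, Subgroup.coe_inv]⟩
      rw [← QuotientGroup.eq_one_iff]
      by_contra hne
      obtain ⟨f, hf⟩ := CommGroup.exists_apply_ne_one_of_hasEnoughRootsOfUnity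
        (Abelianization W) ℂ hne
      refine hf ?_
      have h1 := DFunLike.congr_fun (MulEquiv.ext_iff.mp (MonoidHom.mem_ker.mp (inv_mem hgi))
        (f.comp Abelianization.of)) ⟨k, hk⟩
      change f (Abelianization.of (MulAut.conjNormal (((g ^ i)⁻¹ : P) : G)⁻¹ (⟨k, hk⟩ : W))) =
        f (Abelianization.of ⟨k, hk⟩) at h1
      rw [Subgroup.coe_inv, inv_inv, SubgroupClass.coe_zpow] at h1
      change f (Abelianization.of _) = 1
      rw [map_mul, map_mul, map_inv, map_inv, h1, mul_inv_cancel]
  exact hcen (Subgroup.mem_zpowers _)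

theorem centralizer_relIndex_dvd (hsq : SqfreeDegrees G) {p : ℕ} [hp : Fact p.Prime]
    (W P : Subgroup G) [W.Normal] (hWn : Group.IsNilpotent W) (hW : (Nat.card W).Coprime p)
    (hP : IsPGroup p P) (htop : W ⊔ P = ⊤) :
    (Subgroup.centralizer (W : Set G)).relIndex P ∣ p := by
  have hexp : ∀ f : W →* ℂˣ, f ^ Nat.card W = 1 := fun f => MonoidHom.ext fun w => by
    rw [MonoidHom.pow_apply, ← map_pow, pow_card_eq_one', map_one, MonoidHom.one_apply]
  have hker := ker_index_dvd hP hexp hW (linearAction W P) (fixer_index_dvd hsq W P hP htop)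
  refine dvd_trans (Subgroup.index_dvd_of_le fun g hg => ?_) hker
  exact Subgroup.mem_subgroupOf.mpr (mem_centralizer_of_mem_ker W P hWn hW hP g hg)

open Fitting in
/-- The cores of `G ⧸ F(G)` have order dividing the prime. -/
theorem card_pCore_dvd (hsq : SqfreeDegrees G) [(fittingSubgroup G).Normal] (p : ℕ)
    [hp : Fact p.Prime] : Nat.card (pCore p (G ⧸ fittingSubgroup G)) ∣ p := by
  classical
  set F := fittingSubgroup G with hF
  set π := QuotientGroup.mk' F with hπ
  set Q := pCore p (G ⧸ F) with hQ
  set M := Q.comap π with hM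
  have hFM : F ≤ M := QuotientGroup.le_comap_mk' F Q
  have hcard : F.relIndex M = Nat.card Q := by
    have h1 : (⊥ : Subgroup (G ⧸ F)).comap π = F := by
      rw [MonoidHom.comap_bot, hπ, QuotientGroup.ker_mk']
    conv_lhs => rw [← h1]
    rw [Subgroup.relIndex_comap, hM,
      Subgroup.map_comap_eq_self_of_surjective (QuotientGroup.mk'_surjective F),
      Subgroup.relIndex_bot_left]
  set W := pPrimeCore p G ⊓ F with hW
  have hWM : W ≤ M := inf_le_right.trans hFM
  obtain ⟨P₀⟩ := (inferInstance : Nonempty (Sylow p M))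
  set P := (P₀ : Subgroup M).map M.subtype with hP
  have hPM : P ≤ M := Subgroup.map_subtype_le _
  have hop : pCore p G ≤ P := by
    intro y hy
    have hyM : y ∈ M := hFM (pCore_le_fittingSubgroup p hy)
    refine ⟨⟨y, hyM⟩, ?_, rfl⟩
    exact IsPGroup.le_sylow_of_normal (N := (pCore p G).subgroupOf M)
      (PSolvable.pCore_isPGroup.comap_subtype) P₀ hy
  have hFle : F ≤ W ⊔ pCore p G := by
    rw [hF, fittingSubgroup_eq_iSup_pCore]
    refine iSup_le fun q => ?_
    haveI := Fact.mk q.2
    by_cases h : (q : ℕ) = p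
    · exact h ▸ le_sup_right
    · exact le_sup_of_le_left (le_inf (pCore_le_pPrimeCore_of_ne h) (pCore_le_fittingSubgroup _))
  have hsup : W ⊔ P = M := by
    have h0 : (W ⊔ P).subgroupOf M = ⊤ := by
      rw [← Subgroup.index_eq_one]
      obtain ⟨k, hk⟩ := IsPGroup.iff_card.mp (PSolvable.pCore_isPGroup (p := p) (G := G ⧸ F))
      have hd1 : ((W ⊔ P).subgroupOf M).index ∣ p ^ k := by
        rw [← hk, ← hQ, ← hcard]
        exact Subgroup.relIndex_dvd_of_le_left M (hFle.trans (sup_le_sup_left hop W))
      have hd2 : ¬ p ∣ ((W ⊔ P).subgroupOf M).index := fun h => P₀.not_dvd_index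
        (h.trans (Subgroup.index_dvd_of_le fun y hy =>
          Subgroup.mem_subgroupOf.mpr (Subgroup.mem_sup_right (Subgroup.mem_map_of_mem _ hy))))
      obtain ⟨j, -, hj⟩ := (Nat.dvd_prime_pow hp.out).mp hd1
      rcases Nat.eq_zero_or_pos j with rfl | hj0
      · simpa using hj
      · exact absurd (hj ▸ dvd_pow_self p hj0.ne') hd2
    exact le_antisymm (sup_le hWM hPM) (Subgroup.subgroupOf_eq_top.mp h0)
  have hWco : (Nat.card W).Coprime p :=
    PSolvable.pPrimeCore_coprime.coprime_dvd_left (Subgroup.card_dvd_of_le inf_le_left)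
  have hdvd := centralizer_relIndex_dvd (hsq.normal M) (p := p) (W.subgroupOf M) (P₀ : Subgroup M)
    ((Group.isNilpotent_congr (Subgroup.subgroupOfEquivOfLe hWM)).mpr
      (isNilpotent_of_le_fittingSubgroup inf_le_right))
    (by rw [Nat.card_congr (Subgroup.subgroupOfEquivOfLe hWM).toEquiv]; exact hWco) P₀.2
    (by
      refine Subgroup.map_injective M.subtype_injective ?_
      rw [Subgroup.map_sup, Subgroup.map_subgroupOf_eq_of_le hWM, ← hP, hsup,
        ← MonoidHom.range_eq_map, Subgroup.range_subtype])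
  set C := M ⊓ Subgroup.centralizer (W : Set G) with hC
  have hCF : C ≤ F := by
    refine le_fittingSubgroup ?_
    refine Group.of_quotient_center_nilpotent (IsPGroup.isNilpotent (p := p) ?_)
    have hle : (W.subgroupOf C) ≤ Subgroup.center C := fun y hy =>
      Subgroup.mem_center_iff.mpr fun z =>
        Subtype.ext (Subgroup.mem_centralizer_iff.mp z.2.2 y hy).symm
    obtain ⟨k, hk⟩ := IsPGroup.iff_card.mp P₀.2
    have hd : (Subgroup.center C).index ∣ p ^ k := by
      refine (Subgroup.index_dvd_of_le hle).trans ?_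
      show W.relIndex C ∣ p ^ k
      refine dvd_trans ?_ (dvd_of_eq hk)
      calc W.relIndex C = W.relIndex (C ⊔ W) := (Subgroup.relIndex_sup_right C W).symm
        _ ∣ W.relIndex M := ⟨_, (Subgroup.relIndex_mul_relIndex W (C ⊔ W) M le_sup_right
            (sup_le inf_le_left hWM)).symm⟩
        _ = W.relIndex P := by rw [← hsup, sup_comm, Subgroup.relIndex_sup_right]
        _ ∣ Nat.card P := Subgroup.relIndex_dvd_card _ _
        _ = Nat.card (P₀ : Subgroup M) := Subgroup.card_map_of_injective M.subtype_injective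
    refine IsPGroup.iff_card.mpr ?_
    obtain ⟨j, -, hj⟩ := (Nat.dvd_prime_pow hp.out).mp hd
    exact ⟨j, hj⟩
  rw [← hcard]
  have h2 : (Subgroup.centralizer (W : Set G)).relIndex P ∣ p := by
    refine dvd_trans ?_ hdvd
    rw [hP]
    have h3 : (Subgroup.centralizer ((W.subgroupOf M : Subgroup M) : Set M)) ≤
        (Subgroup.centralizer (W : Set G)).comap M.subtype := fun y hy =>
      Subgroup.mem_centralizer_iff.mpr fun w hw => congrArg Subtype.val
        (Subgroup.mem_centralizer_iff.mp hy ⟨w, hWM hw⟩ hw)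
    rw [← Subgroup.relIndex_comap]
    exact Subgroup.relIndex_dvd_of_le_left _ h3
  have h4 : F.relIndex P ∣ p := by
    refine dvd_trans (Subgroup.relIndex_dvd_of_le_left P ?_) (Subgroup.inf_relIndex_right
      (Subgroup.centralizer (W : Set G)) P ▸ h2)
    exact fun y hy => hCF ⟨hPM hy.2, hy.1⟩
  refine dvd_trans (Eq.dvd ?_) h4
  have : F ⊔ P = M := le_antisymm (sup_le hFM hPM)
    (hsup ▸ sup_le_sup_right inf_le_right P)
  rw [← this, sup_comm, Subgroup.relIndex_sup_right]

open Fitting in
/-- The second derived subgroup of `G ⧸ F(G)` is trivial. -/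
theorem derivedSeries_two_quotient [Group.IsSolvable G] (hsq : SqfreeDegrees G)
    [(fittingSubgroup G).Normal] : derivedSeries (G ⧸ fittingSubgroup G) 2 = ⊥ := by
  have hcen : _root_.commutator (G ⧸ fittingSubgroup G) ≤
      Subgroup.centralizer (fittingSubgroup (G ⧸ fittingSubgroup G) : Set _) := by
    rw [Subgroup.le_centralizer_iff]
    refine (fittingSubgroup_eq_iSup_pCore (G := G ⧸ fittingSubgroup G)).le.trans
      (iSup_le fun q => ?_)
    haveI := Fact.mk q.2
    rw [Subgroup.le_centralizer_iff]
    set C := pCore (q : ℕ) (G ⧸ fittingSubgroup G) with hC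
    haveI : IsCyclic C := by
      rcases (Nat.dvd_prime q.2).mp (card_pCore_dvd hsq (q : ℕ)) with h | h
      · haveI : Subsingleton C := (Nat.card_eq_one_iff_unique.mp h).1
        exact isCyclic_of_subsingleton
      · exact isCyclic_of_prime_card h
    intro g hg
    refine Subgroup.mem_centralizer_iff.mpr fun y hy => ?_
    have h1 : (MulAut.conjNormal : G ⧸ fittingSubgroup G →* MulAut C) g = 1 := by
      rw [← MonoidHom.mem_ker]
      have hle : _root_.commutator (G ⧸ fittingSubgroup G) ≤
          (MulAut.conjNormal : G ⧸ fittingSubgroup G →* MulAut C).ker := by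
        rw [commutator_def, Subgroup.commutator_le]
        intro a _ b _
        rw [MonoidHom.mem_ker, map_commutatorElement, commutatorElement_eq_one_iff_mul_comm]
        refine (IsCyclic.mulAutMulEquiv C).injective ?_
        rw [map_mul, map_mul, mul_comm]
      exact hle hg
    have h2 : g * y * g⁻¹ = y :=
      congrArg Subtype.val (DFunLike.congr_fun h1 (⟨y, hy⟩ : C))
    exact (mul_inv_eq_iff_eq_mul.mp h2).symm
  have hle : _root_.commutator (G ⧸ fittingSubgroup G) ≤ fittingSubgroup (G ⧸ fittingSubgroup G) :=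
    le_fittingSubgroup_of_le_centralizer inferInstance hcen
  rw [derivedSeries_succ, derivedSeries_one, Subgroup.commutator_eq_bot_iff_le_centralizer]
  exact hcen.trans (Subgroup.centralizer_le hle)

open Fitting in
/-- The Fitting subgroup is metabelian. -/
theorem derivedSeries_two_fitting (hsq : SqfreeDegrees G) [(fittingSubgroup G).Normal] :
    derivedSeries (fittingSubgroup G) 2 = ⊥ := by
  set F := fittingSubgroup G with hF
  obtain ⟨e⟩ := ((Group.isNilpotent_of_finite_tfae (G := F)).out 0 4).mp
    (isNilpotent_fittingSubgroup (G := G))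
  rw [Subgroup.eq_bot_iff_forall]
  intro g hg
  have hz : e.symm g = 1 := by
    funext q P
    haveI := Fact.mk (Nat.prime_of_mem_primeFactors q.2)
    have hns : ∀ (r : ℕ) (_ : Fact r.Prime) (Q : Sylow r F), (Q : Subgroup F).Normal :=
      ((Group.isNilpotent_of_finite_tfae (G := F)).out 0 3).mp
        (isNilpotent_fittingSubgroup (G := G))
    haveI : (P : Subgroup F).Normal := hns (q : ℕ) inferInstance P
    have hP : derivedSeries (P : Subgroup F) 2 = ⊥ :=
      derivedSeries_two_pGroup P.2 ((hsq.normal F).normal (P : Subgroup F))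
    let π : (∀ q : (Nat.card F).primeFactors, ∀ P : Sylow (q : ℕ) F, (P : Subgroup F)) →*
        (P : Subgroup F) := { toFun := fun z => z q P, map_one' := rfl, map_mul' := fun _ _ => rfl }
    have h1 := map_derivedSeries_le_derivedSeries (π.comp e.symm.toMonoidHom) 2
      (Subgroup.mem_map_of_mem _ hg)
    rw [hP, Subgroup.mem_bot] at h1
    exact h1
  simpa using congrArg e hz

open Fitting in
/-- A solvable group with squarefree degrees has derived length at most four. -/
theorem derivedSeries_four_eq_bot [Group.IsSolvable G] (hsq : SqfreeDegrees G) :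
    derivedSeries G 4 = ⊥ := by
  haveI := fittingSubgroup_normal (G := G)
  set F := fittingSubgroup G with hF
  have h1 : derivedSeries G 2 ≤ F := by
    have h := map_derivedSeries_le_derivedSeries (QuotientGroup.mk' F) 2
    rw [derivedSeries_two_quotient hsq, Subgroup.map_le_iff_le_comap, MonoidHom.comap_bot,
      QuotientGroup.ker_mk'] at h
    exact h
  have h2 : ∀ n, derivedSeries G (2 + n) ≤ (derivedSeries F n).map F.subtype := by
    intro n
    induction n with
    | zero =>
      rw [derivedSeries_zero, ← MonoidHom.range_eq_map, Subgroup.range_subtype]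
      exact h1
    | succ n ih =>
      rw [← Nat.add_assoc, derivedSeries_succ, derivedSeries_succ, Subgroup.map_commutator]
      exact Subgroup.commutator_mono ih ih
  have h3 := h2 2
  rw [derivedSeries_two_fitting hsq, Subgroup.map_bot] at h3
  exact le_bot_iff.mp h3

end Cfsg.Agent.Lib.SquarefreeDegrees
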