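import Mathlib

/-!
# A `p`-group whose orbits on a coprime abelian group have size dividing `p`
-/

set_option autoImplicit false

namespace Cfsg.Agent.Lib.SquarefreeDegrees

variable {Q A : Type*} [Group Q] [CommGroup A]

/-- The stabiliser of a point for an action by automorphisms given by a homomorphism. -/
def fixer (φ : Q →* MulAut A) (a : A) : Subgroup Q where
  carrier := {g | φ g a = a}
  one_mem' := by simp
  mul_mem' := fun {g h} hg hh => by
    show φ (g * h) a = a
    rw [map_mul, MulAut.mul_apply, hh, hg]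
  inv_mem' := fun {g} hg => by
    show φ g⁻¹ a = a
    conv_lhs => rw [← show φ g a = a from hg]
    rw [← MulAut.mul_apply, ← map_mul, inv_mul_cancel, map_one, MulAut.one_apply]

theorem mem_fixer {φ : Q →* MulAut A} {a : A} {g : Q} : g ∈ fixer φ a ↔ φ g a = a := Iff.rfl

theorem normal_of_index_dvd [Finite Q] {p : ℕ} [hp : Fact p.Prime] (hQ : IsPGroup p Q)
    {S : Subgroup Q} (h : S.index ∣ p) : S.Normal := by
  rcases (Nat.dvd_prime hp.out).mp h with h1 | h1
  · rw [Subgroup.index_eq_one] at h1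
    subst h1
    infer_instance
  · refine Subgroup.normal_of_index_eq_minFac_card ?_
    obtain ⟨k, hk⟩ := IsPGroup.iff_card.mp hQ
    have hk0 : k ≠ 0 := fun h0 => by
      have := S.index_dvd_card
      rw [h1, hk, h0, pow_zero, Nat.dvd_one] at this
      exact hp.out.ne_one this
    rw [h1, hk, Nat.pow_minFac hk0, hp.out.minFac_eq]

/-- If every stabiliser has index dividing `p`, so does the kernel. -/
theorem ker_index_dvd [Finite Q] {p : ℕ} [hp : Fact p.Prime] (hQ : IsPGroup p Q) {m : ℕ}
    (hm : ∀ a : A, a ^ m = 1) (hco : m.Coprime p) (φ : Q →* MulAut A)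
    (hfix : ∀ a, (fixer φ a).index ∣ p) : φ.ker.index ∣ p := by
  have hker : ∀ S : Subgroup Q, (∀ a, S ≤ fixer φ a) → S ≤ φ.ker := fun S h g hg =>
    MonoidHom.mem_ker.mpr (MulEquiv.ext fun a => h a hg)
  by_cases hall : ∀ a, fixer φ a = ⊤
  · have h : φ.ker = ⊤ := top_le_iff.mp (hker ⊤ fun a => (hall a).ge)
    rw [h, Subgroup.index_top]
    exact one_dvd p
  push Not at hall
  obtain ⟨a, ha⟩ := hall
  by_cases hsame : ∀ b, fixer φ a ≤ fixer φ b
  · exact (Subgroup.index_dvd_of_le (hker _ hsame)).trans (hfix a)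
  exfalso
  push Not at hsame
  obtain ⟨b, hab⟩ := hsame
  obtain ⟨k, hka, hkb⟩ := SetLike.not_le_iff_exists.mp hab
  have hidx : ∀ c, fixer φ c ≠ ⊤ → (fixer φ c).index = p := fun c hc =>
    ((Nat.dvd_prime hp.out).mp (hfix c)).resolve_left fun h => hc (Subgroup.index_eq_one.mp h)
  have hmax : ∀ c d, fixer φ c ≠ ⊤ → fixer φ d ≠ ⊤ → fixer φ c ≤ fixer φ d →
      fixer φ c = fixer φ d := by
    intro c d hc hd hle
    refine Subgroup.eq_of_le_of_card_ge hle (le_of_eq ?_)
    have h1 := (fixer φ c).card_mul_index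
    have h2 := (fixer φ d).card_mul_index
    rw [hidx c hc] at h1
    rw [hidx d hd] at h2
    exact Nat.eq_of_mul_eq_mul_right hp.out.pos (h2.trans h1.symm)
  have hb : fixer φ b ≠ ⊤ := fun h => hkb (h ▸ Subgroup.mem_top k)
  haveI := normal_of_index_dvd hQ (hfix a)
  haveI := normal_of_index_dvd hQ (hfix b)
  have hkab : k ∉ fixer φ (a * b) := by
    intro h
    rw [mem_fixer, map_mul, mem_fixer.mp hka, mul_right_inj] at h
    exact hkb h
  have hab3 : fixer φ (a * b) ≠ ⊤ := fun h => hkab (h ▸ Subgroup.mem_top k)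
  have hsup : fixer φ a ⊔ fixer φ b = ⊤ := by
    by_contra hne
    have h1 : (fixer φ a ⊔ fixer φ b).index ∣ p :=
      (Subgroup.index_dvd_of_le le_sup_left).trans (hfix a)
    have h2 : (fixer φ a ⊔ fixer φ b).index = p := ((Nat.dvd_prime hp.out).mp h1).resolve_left
      fun h => hne (Subgroup.index_eq_one.mp h)
    have h3 : fixer φ a ⊔ fixer φ b = fixer φ b := by
      refine (Subgroup.eq_of_le_of_card_ge le_sup_right (le_of_eq ?_)).symm
      have e1 := (fixer φ a ⊔ fixer φ b).card_mul_index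
      have e2 := (fixer φ b).card_mul_index
      rw [h2] at e1
      rw [hidx b hb] at e2
      exact Nat.eq_of_mul_eq_mul_right hp.out.pos (e1.trans e2.symm)
    exact hab (le_sup_left.trans h3.le)
  have hle : fixer φ (a * b) ≤ fixer φ a := by
    intro g hg
    rw [mem_fixer, map_mul] at hg
    set μ := φ g a * a⁻¹ with hμ
    have hμb : μ = b * (φ g b)⁻¹ := by
      rw [hμ, ← div_eq_mul_inv, ← div_eq_mul_inv, div_eq_div_iff_mul_eq_mul, hg, mul_comm]
    have hmove : ∀ (c : A) (S : Subgroup Q), fixer φ c = S → S.Normal → ∀ h ∈ S,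
        φ h (φ g c) = φ g c := by
      intro c S hS hn h hh
      have h1 : g⁻¹ * h * g ∈ fixer φ c := by
        rw [hS]
        simpa using hn.conj_mem h hh g⁻¹
      rw [mem_fixer] at h1
      calc φ h (φ g c) = φ g (φ (g⁻¹ * h * g) c) := by
            rw [← MulAut.mul_apply, ← map_mul, ← MulAut.mul_apply, ← map_mul]; group
        _ = φ g c := by rw [h1]
    have hμfix : ∀ h : Q, φ h μ = μ := by
      have h1 : fixer φ a ≤ fixer φ μ := by
        intro h hh
        rw [mem_fixer, hμ, map_mul, map_inv, hmove a _ rfl inferInstance h hh, mem_fixer.mp hh]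
      have h2 : fixer φ b ≤ fixer φ μ := by
        intro h hh
        rw [mem_fixer, hμb, map_mul, map_inv, hmove b _ rfl inferInstance h hh, mem_fixer.mp hh]
      intro h
      exact (sup_le h1 h2) (hsup.symm ▸ Subgroup.mem_top h)
    have hpow : ∀ i : ℕ, φ (g ^ i) a = μ ^ i * a := by
      intro i
      induction i with
      | zero => simp
      | succ i ih =>
        rw [pow_succ', map_mul, MulAut.mul_apply, ih, map_mul, map_pow, hμfix g,
          show φ g a = μ * a by rw [hμ, inv_mul_cancel_right], ← mul_assoc, ← pow_succ]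
    obtain ⟨n, hn⟩ := IsPGroup.iff_card.mp hQ
    have h1 : μ ^ p ^ n = 1 := by
      have := hpow (p ^ n)
      rw [← hn, pow_card_eq_one', map_one, MulAut.one_apply, hn] at this
      exact right_eq_mul.mp this
    have h2 : μ = 1 := by
      have := pow_gcd_eq_one.2 ⟨h1, hm μ⟩
      rwa [(hco.symm.pow_left n).gcd_eq_one, pow_one] at this
    rw [mem_fixer]
    exact mul_inv_eq_one.mp h2
  exact hkab (hmax _ _ hab3 ha hle ▸ hka)

end Cfsg.Agent.Lib.SquarefreeDegrees
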